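import Groth.Agent.Lib.OX.TildePerfect
import Groth.Agent.Lib.FinCov.Frame
import Groth.Agent.Lib.QCoh.Qcqs
import Groth.Agent.Lib.QCoh.Affine
import Groth.Agent.Lib.DCoh.LocFree
import Groth.Prelude.Def_Mor2
import Mathlib.RingTheory.Finiteness.ModuleFinitePresentation
import Mathlib.AlgebraicGeometry.Morphisms.Finite
import Mathlib.AlgebraicGeometry.Morphisms.Flat
import Mathlib.AlgebraicGeometry.Morphisms.FinitePresentation

/-!
# Finite locally free morphisms through the direct image of the structure sheaf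
-/

universe u

set_option autoImplicit false
set_option linter.style.haveILetI false
set_option backward.isDefEq.respectTransparency false

open AlgebraicGeometry CategoryTheory CategoryTheory.Limits TopologicalSpace Opposite

noncomputable section

namespace GrothLib.FLFPush9

variable {X S : Scheme.{u}} (f : X ⟶ S)

/-- Over an open with a frame the functions form a free module of finite rank. -/
theorem exists_basis (hM : FlatMod.IsFinLocFree ((Scheme.Modules.pushforward f).obj (Coh.structureModule X)))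
    (x : S) : ∃ V : S.Opens, x ∈ V ∧ IsAffineOpen V ∧
      (letI := (f.app V).hom.toAlgebra; Module.Finite Γ(S, V) Γ(X, f ⁻¹ᵁ V) ∧
        Module.Free Γ(S, V) Γ(X, f ⁻¹ᵁ V)) := by
  obtain ⟨U, n, e, hx, he⟩ := FinCov.exists_frame_nhd hM x
  obtain ⟨V, hV, hxV, hVU⟩ := exists_isAffineOpen_mem_and_subset hx
  let M := (Scheme.Modules.pushforward f).obj (Coh.structureModule X)
  let b : Module.Basis (Fin n) Γ(S, V) Γ(M, V) := he.basis V hVU
  letI := (f.app V).hom.toAlgebra
  let ψ : Γ(M, V) ≃ₗ[Γ(S, V)] Γ(X, f ⁻¹ᵁ V) :=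
    { toFun := fun a => a, invFun := fun a => a, map_add' := fun _ _ => rfl,
      map_smul' := fun _ _ => rfl, left_inv := fun _ => rfl, right_inv := fun _ => rfl }
  exact ⟨V, hxV, hV, Module.Finite.of_basis (b.map ψ), Module.Free.of_basis (b.map ψ)⟩

/-- An affine morphism with finite locally free direct image of functions is finite locally free. -/
theorem isFinLocFree_of_pushforward [IsAffineHom f]
    (hM : FlatMod.IsFinLocFree ((Scheme.Modules.pushforward f).obj (Coh.structureModule X))) :
    Mor2.IsFinLocFree f := by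
  choose V hxV hV hfin hfree using exists_basis f hM
  have hcov : ⨆ x, V x = ⊤ := eq_top_iff.mpr fun x _ => Opens.mem_iSup.mpr ⟨x, hxV x⟩
  have happ : ∀ x, (f.app (V x)).hom.Finite ∧ (f.app (V x)).hom.Flat ∧
      (f.app (V x)).hom.FinitePresentation := fun x => by
    letI := (f.app (V x)).hom.toAlgebra
    haveI : Module.Finite Γ(S, V x) Γ(X, f ⁻¹ᵁ V x) := hfin x
    haveI : Module.Free Γ(S, V x) Γ(X, f ⁻¹ᵁ V x) := hfree x
    haveI : Module.FinitePresentation Γ(S, V x) Γ(X, f ⁻¹ᵁ V x) :=
      Module.finitePresentation_of_projective _ _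
    exact ⟨show Module.Finite Γ(S, V x) Γ(X, f ⁻¹ᵁ V x) from inferInstance,
      show Module.Flat Γ(S, V x) Γ(X, f ⁻¹ᵁ V x) from inferInstance,
      show Algebra.FinitePresentation Γ(S, V x) Γ(X, f ⁻¹ᵁ V x) from inferInstance⟩
  have hres : ∀ {Q : ∀ {A B : Type u} [CommRing A] [CommRing B], (A →+* B) → Prop} (x : S),
      Q (f.app (V x)).hom → Q (f ∣_ V x).appTop.hom := by
    intro Q x hQ
    have key : ∀ (W : S.Opens) (W' : X.Opens) (h : W' ≤ f ⁻¹ᵁ W), W = V x → W' = f ⁻¹ᵁ V x →
        Q (f.appLE W W' h).hom := by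
      rintro _ _ h rfl rfl
      rwa [← Scheme.Hom.app_eq_appLE]
    rw [Scheme.Hom.appTop, morphismRestrict_app']
    exact key _ _ _ (V x).ι_image_top (f ⁻¹ᵁ V x).ι_image_top
  refine ⟨?_, ?_, ?_⟩
  · refine IsZariskiLocalAtTarget.of_iSup_eq_top (P := @IsFinite) V hcov fun x => ?_
    haveI : IsAffine (V x : Scheme.{u}) := hV x
    rw [HasAffineProperty.iff_of_isAffine (P := @IsFinite)]
    exact ⟨(hV x).preimage f, hres (Q := fun φ => φ.Finite) x (happ x).1⟩
  · refine IsZariskiLocalAtTarget.of_iSup_eq_top (P := @Flat) V hcov fun x => ?_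
    haveI : IsAffine (V x : Scheme.{u}) := hV x
    haveI : IsAffine (f ⁻¹ᵁ V x : Scheme.{u}) := (hV x).preimage f
    rw [HasRingHomProperty.iff_of_isAffine (P := @Flat)]
    exact hres (Q := fun φ => φ.Flat) x (happ x).2.1
  · refine IsZariskiLocalAtTarget.of_iSup_eq_top (P := @LocallyOfFinitePresentation) V hcov fun x => ?_
    haveI : IsAffine (V x : Scheme.{u}) := hV x
    haveI : IsAffine (f ⁻¹ᵁ V x : Scheme.{u}) := (hV x).preimage f
    rw [HasRingHomProperty.iff_of_isAffine (P := @LocallyOfFinitePresentation)]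
    exact hres (Q := fun φ => φ.FinitePresentation) x (happ x).2.2

/-- The direct image of functions along a finite locally free morphism is finite locally free. -/
theorem isFinLocFree_pushforward [IsFinite f] [Flat f] [LocallyOfFinitePresentation f] :
    FlatMod.IsFinLocFree ((Scheme.Modules.pushforward f).obj (Coh.structureModule X)) := by
  haveI : (Coh.structureModule X).IsQuasicoherent := inferInstance
  let M := (Scheme.Modules.pushforward f).obj (Coh.structureModule X)
  haveI : M.IsQuasicoherent := QCoh.isQuasicoherent_pushforward f _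
  refine OX.isFinLocFree_of_local fun x => ?_
  obtain ⟨U, hU, hxU, -⟩ := exists_isAffineOpen_mem_and_subset (Opens.mem_top x)
  refine ⟨Spec Γ(S, U), hU.fromSpec, inferInstance, by rw [hU.range_fromSpec]; exact hxU, ?_⟩
  let N : (Spec Γ(S, U)).Modules := M.restrict hU.fromSpec
  letI := (f.app U).hom.toAlgebra
  have hle : f ⁻¹ᵁ U ≤ f ⁻¹ᵁ U := le_rfl
  haveI : Module.Finite Γ(S, U) Γ(X, f ⁻¹ᵁ U) := f.finite_app U hU
  haveI : Algebra.FinitePresentation Γ(S, U) Γ(X, f ⁻¹ᵁ U) := by
    have h := f.finitePresentation_appLE hU (hU.preimage f) hle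
    rw [← Scheme.Hom.app_eq_appLE] at h
    exact h
  haveI : Module.Flat Γ(S, U) Γ(X, f ⁻¹ᵁ U) := by
    have h := f.flat_appLE hU (hU.preimage f) hle
    rw [← Scheme.Hom.app_eq_appLE] at h
    exact h
  haveI : Module.FinitePresentation Γ(S, U) Γ(X, f ⁻¹ᵁ U) :=
    Module.FinitePresentation.of_finite_of_finitePresentation _ _
  haveI : Module.Projective Γ(S, U) Γ(X, f ⁻¹ᵁ U) := Module.Flat.projective_of_finitePresentation
  let e : Γ(X, f ⁻¹ᵁ U) ≃ₗ[Γ(S, U)] moduleSpecΓFunctor.obj N :=
    LinearEquiv.symm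
      { (QCoh.secIso hU M ⊤ (QCoh.image_top hU)) with
        map_smul' := fun g x => QCoh.secIso_top_smul hU M g x }
  haveI : Module.Finite Γ(S, U) (moduleSpecΓFunctor.obj N) := Module.Finite.equiv e
  haveI : Module.Projective Γ(S, U) (moduleSpecΓFunctor.obj N) := Module.Projective.of_equiv e
  haveI : IsIso N.fromTildeΓ := (QCoh.isIso_fromTildeΓ_restrict_iff hU M).mpr fun g =>
    QCoh.smulLift_and_smulSep_of_isAffineOpen hU M g
  exact DCoh.isFinLocFree_of_iso (asIso N.fromTildeΓ)
    (OX.isFinLocFree_tilde (moduleSpecΓFunctor.obj N))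

end GrothLib.FLFPush9
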